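import Cfsg.Agent.H35.T1685.PChk0
import Cfsg.Agent.H35.T1685.PChk1

set_option autoImplicit false
set_option linter.all false

namespace Cfsg.Agent.H35

theorem t1685_pall : ∀ p, p < 14080 → t1685_pf p = true := by
  apply allR_blocks t1685_pf 14080 8 55 _ (by decide)
  intro k hk
  interval_cases k
  · exact t1685_pchk_0
  · exact t1685_pchk_1
  · exact t1685_pchk_2
  · exact t1685_pchk_3
  · exact t1685_pchk_4
  · exact t1685_pchk_5
  · exact t1685_pchk_6
  · exact t1685_pchk_7
  · exact t1685_pchk_8
  · exact t1685_pchk_9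
  · exact t1685_pchk_10
  · exact t1685_pchk_11
  · exact t1685_pchk_12
  · exact t1685_pchk_13
  · exact t1685_pchk_14
  · exact t1685_pchk_15
  · exact t1685_pchk_16
  · exact t1685_pchk_17
  · exact t1685_pchk_18
  · exact t1685_pchk_19
  · exact t1685_pchk_20
  · exact t1685_pchk_21
  · exact t1685_pchk_22
  · exact t1685_pchk_23
  · exact t1685_pchk_24
  · exact t1685_pchk_25
  · exact t1685_pchk_26
  · exact t1685_pchk_27
  · exact t1685_pchk_28
  · exact t1685_pchk_29
  · exact t1685_pchk_30
  · exact t1685_pchk_31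
  · exact t1685_pchk_32
  · exact t1685_pchk_33
  · exact t1685_pchk_34
  · exact t1685_pchk_35
  · exact t1685_pchk_36
  · exact t1685_pchk_37
  · exact t1685_pchk_38
  · exact t1685_pchk_39
  · exact t1685_pchk_40
  · exact t1685_pchk_41
  · exact t1685_pchk_42
  · exact t1685_pchk_43
  · exact t1685_pchk_44
  · exact t1685_pchk_45
  · exact t1685_pchk_46
  · exact t1685_pchk_47
  · exact t1685_pchk_48
  · exact t1685_pchk_49
  · exact t1685_pchk_50
  · exact t1685_pchk_51
  · exact t1685_pchk_52
  · exact t1685_pchk_53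
  · exact t1685_pchk_54

theorem t1685_psub : t1685_pd.subOK t1685_sw = true := by decide +kernel

end Cfsg.Agent.H35
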