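import Cfsg.Agent.H35.T1685.RChk0
import Cfsg.Agent.H35.T1685.RChk1

set_option autoImplicit false
set_option linter.all false

namespace Cfsg.Agent.H35

theorem t1685_rall : ∀ p, p < 16011 → t1685_rf p = true := by
  apply allR_blocks t1685_rf 16011 9 32 _ (by decide)
  intro k hk
  interval_cases k
  · exact t1685_rchk_0
  · exact t1685_rchk_1
  · exact t1685_rchk_2
  · exact t1685_rchk_3
  · exact t1685_rchk_4
  · exact t1685_rchk_5
  · exact t1685_rchk_6
  · exact t1685_rchk_7
  · exact t1685_rchk_8
  · exact t1685_rchk_9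
  · exact t1685_rchk_10
  · exact t1685_rchk_11
  · exact t1685_rchk_12
  · exact t1685_rchk_13
  · exact t1685_rchk_14
  · exact t1685_rchk_15
  · exact t1685_rchk_16
  · exact t1685_rchk_17
  · exact t1685_rchk_18
  · exact t1685_rchk_19
  · exact t1685_rchk_20
  · exact t1685_rchk_21
  · exact t1685_rchk_22
  · exact t1685_rchk_23
  · exact t1685_rchk_24
  · exact t1685_rchk_25
  · exact t1685_rchk_26
  · exact t1685_rchk_27
  · exact t1685_rchk_28
  · exact t1685_rchk_29
  · exact t1685_rchk_30
  · exact t1685_rchk_31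

theorem t1685_circ_ok : circChk (fullW fi22_rws fi22_prels) t1685_circT 0 t1685_ccert = true := by decide +kernel
theorem t1685_hc_ok : allR (fun c => hcChk t1685_rsw t1685_hc1T t1685_hc2T c) 8 3 0 = true := by decide +kernel
theorem t1685_h0 : RData.aord (t1685_rd.ent 0 1) = 0 := by decide +kernel

end Cfsg.Agent.H35
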